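import Mathlib.Tactic
import Mathlib.NumberTheory.Bernoulli
import Mathlib.NumberTheory.ZetaValues
import Mathlib.RingTheory.PowerSeries.Inverse
import Mathlib.RingTheory.PowerSeries.NoZeroDivisors
import Mathlib.RingTheory.PowerSeries.Exp

/-! Leading terms of the Todd product of Moret-Bailly. -/

set_option autoImplicit false

namespace Groth.Agent.H25Todd
open PowerSeries

local notation "B" => bernoulli'PowerSeries ℚ

lemma resc_exp_mul (a b : ℚ) : rescale a (exp ℚ) * rescale b (exp ℚ) = rescale (a + b) (exp ℚ) :=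
  exp_mul_exp_eq_exp_add a b

lemma B_neg : rescale (-1 : ℚ) B * exp ℚ = B := by
  have hne : exp ℚ - 1 ≠ (0 : PowerSeries ℚ) := fun h => by
    have := congrArg (coeff 1) h
    simp [coeff_exp, coeff_one] at this
  have h1 : B * (exp ℚ - 1) = X * exp ℚ := bernoulli'PowerSeries_mul_exp_sub_one ℚ
  have h2 := congrArg (rescale (-1 : ℚ)) h1
  simp only [map_mul, map_sub, map_one, rescale_X] at h2
  have h3 : rescale (-1 : ℚ) (exp ℚ) * exp ℚ = 1 := by
    have := resc_exp_mul (-1) 1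
    rw [rescale_one, RingHom.id_apply] at this
    rw [this]
    simp
  apply mul_right_cancel₀ hne
  rw [h1]
  simp only [map_neg, map_one] at h2
  linear_combination (-(exp ℚ * exp ℚ)) * h2 + (exp ℚ * rescale (-1 : ℚ) B + exp ℚ * X) * h3

lemma B_reflect (u : ℚ) : rescale (-u) B * rescale u (exp ℚ) = rescale u B := by
  have := congrArg (rescale u) B_neg
  rwa [map_mul, rescale_rescale, neg_one_mul] at this

/-- The `p`-independent factor. -/
noncomputable def G (n d : ℕ) (s : ℤ) : PowerSeries ℚ :=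
  (rescale (-(d : ℚ)) B)⁻¹ * B ^ (n + 1) * rescale ((s : ℚ) - d - n - 1) (exp ℚ)

lemma product_eq (n d : ℕ) (s : ℤ) (u : ℚ) :
    (rescale (-(d : ℚ)) B)⁻¹ * rescale (-u) B * B ^ (n + 1) *
      rescale (u - d - n - 1 + s) (exp ℚ) = G n d s * rescale u B := by
  rw [show u - d - n - 1 + (s : ℚ) = u + ((s : ℚ) - d - n - 1) by ring, ← resc_exp_mul, ← B_reflect u, G]
  ring

lemma constantCoeff_B : constantCoeff B = 1 := by
  rw [← coeff_zero_eq_constantCoeff]
  simp [bernoulli'PowerSeries]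

lemma coeff_B (i : ℕ) : coeff i B = bernoulli' i / (i.factorial : ℚ) := by
  simp [bernoulli'PowerSeries]

lemma cc_resc (a : ℚ) (f : PowerSeries ℚ) : constantCoeff (rescale a f) = constantCoeff f := by
  rw [← coeff_zero_eq_constantCoeff_apply, coeff_rescale, pow_zero, one_mul,
    coeff_zero_eq_constantCoeff_apply]

lemma coeff_zero_G (n d : ℕ) (s : ℤ) : coeff 0 (G n d s) = 1 := by
  simp [G, constantCoeff_B, cc_resc]

lemma coeff_one_mul' (f g : PowerSeries ℚ) :
    coeff 1 (f * g) = coeff 1 f * constantCoeff g + constantCoeff f * coeff 1 g := by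
  rw [coeff_mul, show Finset.antidiagonal 1 = {(0, 1), (1, 0)} from rfl,
    Finset.sum_pair (by decide)]
  simp
  ring

lemma coeff_one_G (n d : ℕ) (s : ℤ) :
    coeff 1 (G n d s) = (2 * (s : ℚ) - d - n - 1) / 2 := by
  have hB1 : coeff 1 B = 1 / 2 := by rw [coeff_B, bernoulli'_one]; norm_num
  have hc : constantCoeff (rescale (-(d : ℚ)) B) = 1 := by rw [cc_resc, constantCoeff_B]
  have hinv : coeff 1 (rescale (-(d : ℚ)) B)⁻¹ = (d : ℚ) / 2 := by
    have h := congrArg (coeff 1) (PowerSeries.mul_inv_cancel (rescale (-(d : ℚ)) B) (by rw [hc]; exact one_ne_zero))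
    rw [coeff_one_mul', coeff_rescale, hB1, hc, constantCoeff_inv, hc] at h
    simp [coeff_one] at h
    linarith
  have hpow : ∀ m : ℕ, coeff 1 (B ^ m) = (m : ℚ) / 2 := by
    intro m
    induction m with
    | zero => simp [coeff_one]
    | succ m ih =>
      rw [pow_succ, coeff_one_mul', ih, hB1, constantCoeff_B, map_pow, constantCoeff_B]
      push_cast; ring
  have hc' : constantCoeff (rescale ((s : ℚ) - d - n - 1) (exp ℚ)) = 1 := by rw [cc_resc]; simp
  rw [G, coeff_one_mul', coeff_one_mul', hinv, hpow, map_mul, map_pow, constantCoeff_inv, hc, hc',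
    constantCoeff_B, coeff_rescale, coeff_exp]
  push_cast
  simp
  ring

theorem leading_terms (n d : ℕ) (s : ℤ) (hn : 2 ≤ n) :
    ∃ P : Polynomial ℚ, P.natDegree ≤ n - 2 ∧ ∀ p : ℕ,
      coeff n ((rescale (-(d : ℚ)) B)⁻¹ * rescale (-((d : ℚ) * p)) B * B ^ (n + 1) *
        rescale ((d : ℚ) * p - d - n - 1 + s) (exp ℚ)) =
        bernoulli' n * ((d : ℚ) * p) ^ n / (Nat.factorial n : ℚ) +
          (2 * (s : ℚ) - d - n - 1) / 2 * bernoulli' (n - 1) * ((d : ℚ) * p) ^ (n - 1) /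
            (Nat.factorial (n - 1) : ℚ) +
          P.eval (p : ℚ) := by
  obtain ⟨m, rfl⟩ : ∃ m, n = m + 2 := ⟨n - 2, by omega⟩
  refine ⟨∑ i ∈ Finset.range (m + 1), Polynomial.C
    (coeff (m + 2 - i) (G (m + 2) d s) * (bernoulli' i / (i.factorial : ℚ) * (d : ℚ) ^ i)) *
      Polynomial.X ^ i, ?_, fun p => ?_⟩
  · refine Polynomial.natDegree_sum_le_of_forall_le _ _ fun i hi => ?_
    refine (Polynomial.natDegree_C_mul_X_pow_le _ _).trans ?_
    rw [Finset.mem_range] at hi; omega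
  · rw [product_eq, mul_comm (G _ d s) (rescale _ B), coeff_mul,
      Finset.Nat.sum_antidiagonal_eq_sum_range_succ_mk]
    rw [Finset.sum_range_succ, Finset.sum_range_succ]
    simp only [show m + 1 + 1 = m + 2 from rfl, Nat.sub_self, show m + 2 - (m + 1) = 1 by omega,
      show m + 2 - 1 = m + 1 from rfl, coeff_zero_G, coeff_one_G, coeff_rescale, coeff_B,
      Polynomial.eval_finsetSum, Polynomial.eval_mul, Polynomial.eval_C, Polynomial.eval_pow,
      Polynomial.eval_X]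
    have hsum : ∑ x ∈ Finset.range (m + 1), ((d : ℚ) * p) ^ x * (bernoulli' x / (x.factorial : ℚ)) *
          coeff (m + 2 - x) (G (m + 2) d s) =
        ∑ i ∈ Finset.range (m + 1), coeff (m + 2 - i) (G (m + 2) d s) *
          (bernoulli' i / (i.factorial : ℚ) * (d : ℚ) ^ i) * (p : ℚ) ^ i :=
      Finset.sum_congr rfl fun i _ => by rw [mul_pow]; ring
    rw [hsum]
    ring

lemma bernoulli'_even_sign {k : ℕ} (hk : k ≠ 0) : 0 < (-1 : ℚ) ^ (k + 1) * bernoulli' (2 * k) := by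
  have h := hasSum_zeta_nat hk
  have hpos : 0 < (-1 : ℝ) ^ (k + 1) * (2 : ℝ) ^ (2 * k - 1) * Real.pi ^ (2 * k) *
      bernoulli (2 * k) / (2 * k).factorial := by
    have h1 := le_hasSum h 1 (fun j _ => by positivity)
    simp only [Nat.cast_one, one_pow, div_one] at h1
    linarith
  rw [bernoulli_eq_bernoulli'_of_ne_one (by omega)] at hpos
  have h3 : (0 : ℝ) < (-1 : ℝ) ^ (k + 1) * (bernoulli' (2 * k) : ℚ) := by
    have hP : (0 : ℝ) < (2 : ℝ) ^ (2 * k - 1) * Real.pi ^ (2 * k) / (2 * k).factorial := by positivity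
    have e : (-1 : ℝ) ^ (k + 1) * (2 : ℝ) ^ (2 * k - 1) * Real.pi ^ (2 * k) *
        ((bernoulli' (2 * k) : ℚ) : ℝ) / (2 * k).factorial =
        ((2 : ℝ) ^ (2 * k - 1) * Real.pi ^ (2 * k) / (2 * k).factorial) *
          ((-1 : ℝ) ^ (k + 1) * (bernoulli' (2 * k) : ℚ)) := by ring
    rw [e] at hpos
    exact (pos_iff_pos_of_mul_pos hpos).1 hP
  exact_mod_cast h3

lemma eventually_neg (c : ℚ) (hc : c < 0) (P : Polynomial ℚ) {N : ℕ} (hP : P.natDegree < N) :
    ∃ M : ℕ, ∀ p : ℕ, M ≤ p → c * (p : ℚ) ^ N + P.eval (p : ℚ) < 0 := by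
  obtain ⟨S, hS⟩ : ∃ S, S = ∑ i ∈ Finset.range N, |P.coeff i| := ⟨_, rfl⟩
  refine ⟨max 1 (⌈S / -c⌉₊ + 1), fun p hp => ?_⟩
  have hp1 : (1 : ℚ) ≤ p := by exact_mod_cast (le_max_left _ _).trans hp
  have hp2 : S / -c < p := by
    have h := Nat.le_ceil (S / -c)
    have h2 : ((⌈S / -c⌉₊ + 1 : ℕ) : ℚ) ≤ p := by exact_mod_cast (le_max_right _ _).trans hp
    push_cast at h2; linarith
  rw [div_lt_iff₀ (neg_pos.2 hc)] at hp2
  obtain ⟨M, rfl⟩ : ∃ M, N = M + 1 := ⟨N - 1, by omega⟩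
  have hb : P.eval (p : ℚ) ≤ S * (p : ℚ) ^ M := by
    rw [Polynomial.eval_eq_sum_range' hP, hS, Finset.sum_mul]
    refine Finset.sum_le_sum fun i hi => ?_
    have hi' : i ≤ M := by simp at hi; omega
    calc P.coeff i * (p : ℚ) ^ i ≤ |P.coeff i| * (p : ℚ) ^ i :=
          mul_le_mul_of_nonneg_right (le_abs_self _) (by positivity)
      _ ≤ |P.coeff i| * (p : ℚ) ^ M :=
          mul_le_mul_of_nonneg_left (pow_le_pow_right₀ hp1 hi') (abs_nonneg _)
  have hpow : (0 : ℚ) < (p : ℚ) ^ M := by positivity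
  rw [pow_succ]
  nlinarith [mul_lt_mul_of_pos_right hp2 hpow]

theorem neg_eventually (n d : ℕ) (s : ℤ) (hn : 2 ≤ n) (hd : 1 ≤ d)
    (h : bernoulli' n < 0 ∨
      (bernoulli' n = 0 ∧ (2 * (s : ℚ) - d - n - 1) * bernoulli' (n - 1) < 0)) :
    ∃ P : ℕ, ∀ p : ℕ, P ≤ p →
      coeff n ((rescale (-(d : ℚ)) B)⁻¹ * rescale (-((d : ℚ) * p)) B * B ^ (n + 1) *
        rescale ((d : ℚ) * p - d - n - 1 + s) (exp ℚ)) < 0 := by
  obtain ⟨Q, hQ, hQe⟩ := leading_terms n d s hn
  have hd0 : (0 : ℚ) < d := by exact_mod_cast hd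
  rcases h with h | ⟨h0, h⟩
  · obtain ⟨M, hM⟩ := eventually_neg (bernoulli' n * (d : ℚ) ^ n / (n.factorial : ℚ))
      (div_neg_of_neg_of_pos (mul_neg_of_neg_of_pos h (by positivity)) (by positivity))
      (Q + Polynomial.C ((2 * (s : ℚ) - d - n - 1) / 2 * bernoulli' (n - 1) * (d : ℚ) ^ (n - 1) /
        ((n - 1).factorial : ℚ)) * Polynomial.X ^ (n - 1)) (N := n)
      (lt_of_le_of_lt (Polynomial.natDegree_add_le _ _)
        (max_lt (lt_of_le_of_lt hQ (by omega))
          (lt_of_le_of_lt (Polynomial.natDegree_C_mul_X_pow_le _ _) (by omega))))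
    refine ⟨M, fun p hp => ?_⟩
    rw [hQe]
    refine lt_of_eq_of_lt ?_ (hM p hp)
    simp [mul_pow]
    ring
  · obtain ⟨M, hM⟩ := eventually_neg ((2 * (s : ℚ) - d - n - 1) / 2 * bernoulli' (n - 1) *
        (d : ℚ) ^ (n - 1) / ((n - 1).factorial : ℚ))
      (div_neg_of_neg_of_pos (mul_neg_of_neg_of_pos
        (by rw [div_mul_eq_mul_div]; exact div_neg_of_neg_of_pos h two_pos) (by positivity))
        (by positivity))
      Q (N := n - 1) (lt_of_le_of_lt hQ (by omega))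
    refine ⟨M, fun p hp => ?_⟩
    rw [hQe, h0]
    refine lt_of_eq_of_lt ?_ (hM p hp)
    simp [mul_pow]
    ring

theorem exists_twist (n d : ℕ) (hn : 2 ≤ n) (hmod : n % 4 ≠ 2) (hd : 1 ≤ d) :
    ∃ s : ℤ, 1 ≤ s ∧ ∃ P : ℕ, ∀ p : ℕ, P ≤ p →
      coeff n ((rescale (-(d : ℚ)) B)⁻¹ * rescale (-((d : ℚ) * p)) B * B ^ (n + 1) *
        rescale ((d : ℚ) * p - d - n - 1 + s) (exp ℚ)) < 0 := by
  rcases (show n % 4 = 0 ∨ n % 4 = 1 ∨ n % 4 = 3 by omega) with h | h | h
  · refine ⟨1, le_rfl, neg_eventually n d 1 hn hd (Or.inl ?_)⟩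
    have := bernoulli'_even_sign (k := n / 2) (by omega)
    rw [(show Odd (n / 2 + 1) by rw [Nat.odd_iff]; omega).neg_one_pow,
      show 2 * (n / 2) = n by omega] at this
    linarith
  · refine ⟨(n : ℤ) + d + 1, by omega, neg_eventually n d _ hn hd (Or.inr ⟨?_, ?_⟩)⟩
    · exact bernoulli'_eq_zero_of_odd (by rw [Nat.odd_iff]; omega) (by omega)
    · have := bernoulli'_even_sign (k := (n - 1) / 2) (by omega)
      rw [(show Odd ((n - 1) / 2 + 1) by rw [Nat.odd_iff]; omega).neg_one_pow,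
        show 2 * ((n - 1) / 2) = n - 1 by omega] at this
      push_cast
      nlinarith [this]
  · refine ⟨1, le_rfl, neg_eventually n d 1 hn hd (Or.inr ⟨?_, ?_⟩)⟩
    · exact bernoulli'_eq_zero_of_odd (by rw [Nat.odd_iff]; omega) (by omega)
    · have := bernoulli'_even_sign (k := (n - 1) / 2) (by omega)
      rw [(show Even ((n - 1) / 2 + 1) by rw [Nat.even_iff]; omega).neg_one_pow,
        show 2 * ((n - 1) / 2) = n - 1 by omega, one_mul] at this
      have h1 : (2 : ℚ) ≤ n := by exact_mod_cast hn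
      have h2 : (1 : ℚ) ≤ d := by exact_mod_cast hd
      push_cast
      exact mul_neg_of_neg_of_pos (by linarith) this

theorem neg_of_twist (n d : ℕ) (s : ℤ) (hn : 2 ≤ n) (hmod : n % 4 = 0 ∨ n % 4 = 1) (hd : 1 ≤ d)
    (hs : (n : ℤ) + d + 1 < 2 * s) :
    ∃ P : ℕ, ∀ p : ℕ, P ≤ p →
      coeff n ((rescale (-(d : ℚ)) B)⁻¹ * rescale (-((d : ℚ) * p)) B * B ^ (n + 1) *
        rescale ((d : ℚ) * p - d - n - 1 + s) (exp ℚ)) < 0 := by
  rcases hmod with h | h
  · refine neg_eventually n d s hn hd (Or.inl ?_)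
    have := bernoulli'_even_sign (k := n / 2) (by omega)
    rw [(show Odd (n / 2 + 1) by rw [Nat.odd_iff]; omega).neg_one_pow,
      show 2 * (n / 2) = n by omega] at this
    linarith
  · refine neg_eventually n d s hn hd (Or.inr ⟨?_, ?_⟩)
    · exact bernoulli'_eq_zero_of_odd (by rw [Nat.odd_iff]; omega) (by omega)
    · have := bernoulli'_even_sign (k := (n - 1) / 2) (by omega)
      rw [(show Odd ((n - 1) / 2 + 1) by rw [Nat.odd_iff]; omega).neg_one_pow,
        show 2 * ((n - 1) / 2) = n - 1 by omega] at this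
      have h3 : ((n : ℚ) + d + 1) < 2 * (s : ℚ) := by exact_mod_cast hs
      exact mul_neg_of_pos_of_neg (by linarith) (by linarith)

end Groth.Agent.H25Todd
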